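import Cfsg.Agent.H459.TC.Alt
import Cfsg.Agent.H494.TC.Base
import Cfsg.Agent.H538.Pw.Arith
import Cfsg.Agent.S0243
import Cfsg.Agent.S0252
import Cfsg.Agent.S0253
import Cfsg.Agent.S1163
import Cfsg.Agent.S2455
import Cfsg.Agent.S2456
import Cfsg.Agent.S2457
import Cfsg.Agent.S2458
import Cfsg.Prelude.Def_LieTwisted
import Cfsg.Prelude.Def_Sz

/-!
# S4173, S2464, S2452: groups of rank one (helper937)

* `row3_psl_two` : `PSL₂(q)`, `q ≠ 7, 17` (elements of prime order `≥ 5`);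
* `s2452_psl_two` : `PSL₂(q)`, `q = 7, 17` (elements of order three), form of S2452;
* `row3_sz`, `row3_ree` : Suzuki groups (order 5) and Ree groups (order 7).
-/

set_option autoImplicit false

namespace Cfsg.Agent.H937.TC

open Cfsg.Agent.H210.TC Cfsg.Agent.H538.Pw

/-- a prime `≥ 5` dividing `q² - 1` -/
theorem exists_prime_sq {q : ℕ} (h4 : 4 ≤ q) (h5 : q ≠ 5) (h7 : q ≠ 7) (h17 : q ≠ 17) :
    ∃ l : ℕ, l.Prime ∧ 5 ≤ l ∧ l ∣ q ^ 2 - 1 := by
  by_contra hcon
  push Not at hcon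
  have hsq : q ^ 2 - 1 = (q + 1) * (q - 1) := by
    have := Nat.sq_sub_sq q 1
    rwa [one_pow] at this
  have key : ∀ m : ℕ, m ∣ q ^ 2 - 1 → ∀ l : ℕ, l.Prime → 5 ≤ l → ¬ l ∣ m := fun m hm l hl h5 h => hcon l hl h5 (h.trans hm)
  have d1 : q - 1 ∣ q ^ 2 - 1 := by rw [hsq]; exact dvd_mul_left _ _
  have d2 : q + 1 ∣ q ^ 2 - 1 := by rw [hsq]; exact dvd_mul_right _ _
  rcases Nat.even_or_odd' q with ⟨k, rfl | rfl⟩
  · obtain ⟨a, ha⟩ := eq_pow_of (r := 2) (s := 3) (m := 2 * k - 1) (Or.inl ⟨rfl, rfl⟩) (by omega) (by omega) (key _ d1)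
    obtain ⟨b, hb⟩ := eq_pow_of (r := 2) (s := 3) (m := 2 * k + 1) (Or.inl ⟨rfl, rfl⟩) (by omega) (by omega) (key _ d2)
    rcases Nat.eq_zero_or_pos a with rfl | ha0
    · rw [pow_zero] at ha
      omega
    · have e1 : 3 ∣ 2 * k - 1 := by rw [ha]; exact dvd_pow_self 3 (by omega)
      rcases Nat.eq_zero_or_pos b with rfl | hb0
      · rw [pow_zero] at hb
        omega
      · have e2 : 3 ∣ 2 * k + 1 := by rw [hb]; exact dvd_pow_self 3 (by omega)
        omega
  · have d1' : k ∣ (2 * k + 1) ^ 2 - 1 := Dvd.dvd.trans (Dvd.intro_left 2 (by omega)) d1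
    have d2' : k + 1 ∣ (2 * k + 1) ^ 2 - 1 := Dvd.dvd.trans (Dvd.intro_left 2 (by omega)) d2
    rcases Nat.even_or_odd' k with ⟨j, rfl | rfl⟩
    · -- `k` even
      obtain ⟨b, hb⟩ := eq_pow_of (r := 2) (s := 3) (m := 2 * j + 1) (Or.inl ⟨rfl, rfl⟩) (by omega) (by omega) (key _ d2')
      have hb0 : 0 < b := by
        rcases Nat.eq_zero_or_pos b with rfl | hb0
        · rw [pow_zero] at hb
          omega
        · exact hb0
      have e2 : 3 ∣ 2 * j + 1 := by rw [hb]; exact dvd_pow_self 3 (by omega)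
      obtain ⟨c, hc⟩ := eq_pow_of (r := 3) (s := 2) (m := 2 * j) (Or.inr ⟨rfl, rfl⟩) (by omega) (by omega) (key _ d1')
      rcases Nat.lt_or_ge c 4 with h | h
      · interval_cases c
        · omega
        · omega
        · have : b = 0 ∨ b = 1 ∨ 2 ≤ b := by omega
          rcases this with rfl | rfl | h2
          · omega
          · norm_num at hb; omega
          · have : 3 ^ 2 ≤ 3 ^ b := Nat.pow_le_pow_right (by norm_num) h2
            omega
        · omega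
      · exact no_three (a := b) (b := c) (by omega) h
    · -- `k` odd
      obtain ⟨a, ha⟩ := eq_pow_of (r := 2) (s := 3) (m := 2 * j + 1) (Or.inl ⟨rfl, rfl⟩) (by omega) (by omega) (key _ d1')
      have ha0 : 0 < a := by
        rcases Nat.eq_zero_or_pos a with rfl | ha0
        · rw [pow_zero] at ha
          omega
        · exact ha0
      have e1 : 3 ∣ 2 * j + 1 := by rw [ha]; exact dvd_pow_self 3 (by omega)
      obtain ⟨c, hc⟩ := eq_pow_of (r := 3) (s := 2) (m := 2 * j + 1 + 1) (Or.inr ⟨rfl, rfl⟩) (by omega) (by omega)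
        (key _ d2')
      rcases Nat.lt_or_ge c 3 with h | h
      · interval_cases c <;> omega
      · exact no_two (a := a) (b := c) (by omega) h

theorem cop6 {l : ℕ} (hl : l.Prime) (h5 : 5 ≤ l) : Nat.Coprime l 6 := by
  rw [show (6 : ℕ) = 2 * 3 by norm_num]
  refine Nat.Coprime.mul_right ?_ ?_
  · rw [Nat.coprime_primes hl Nat.prime_two]; omega
  · rw [Nat.coprime_primes hl Nat.prime_three]; omega

section psl

variable {F : Type*} [Field F] [Fintype F]

theorem dvd_card_psl_two {l : ℕ} (hl : l.Prime) (h3 : 3 ≤ l) (h : l ∣ Fintype.card F ^ 2 - 1) :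
    l ∣ Nat.card (Matrix.ProjectiveSpecialLinearGroup (Fin 2) F) := by
  have hq : 2 ≤ Fintype.card F := Fintype.one_lt_card
  have h1 := S0243.result (F := F) rfl 2 le_rfl
  rw [Fin.prod_univ_two] at h1
  simp only [Fin.val_zero, Fin.val_one, pow_zero, pow_one] at h1
  have h2 : Fintype.card F ^ 2 - Fintype.card F = Fintype.card F * (Fintype.card F - 1) := by
    rw [Nat.mul_sub, mul_one, pow_two]
  rw [h2] at h1
  have h3' : Nat.gcd 2 (Fintype.card F - 1) * Nat.card (Matrix.ProjectiveSpecialLinearGroup (Fin 2) F) =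
      (Fintype.card F ^ 2 - 1) * Fintype.card F := by
    apply Nat.eq_of_mul_eq_mul_left (show 0 < Fintype.card F - 1 by omega)
    linear_combination h1
  have h4 : l ∣ Nat.gcd 2 (Fintype.card F - 1) * Nat.card (Matrix.ProjectiveSpecialLinearGroup (Fin 2) F) := by
    rw [h3']; exact h.mul_right _
  refine (Nat.Coprime.dvd_mul_left ?_).1 h4
  have h5 : Nat.Coprime l 2 := by rw [Nat.coprime_primes hl Nat.prime_two]; omega
  exact h5.coprime_dvd_right (Nat.gcd_dvd_left _ _)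

theorem exists_psl_two {l : ℕ} (hl : l.Prime) (h3 : 3 ≤ l) (h : l ∣ Fintype.card F ^ 2 - 1) :
    ∃ x : Matrix.ProjectiveSpecialLinearGroup (Fin 2) F, orderOf x = l := by
  have : Fact l.Prime := ⟨hl⟩
  have : Finite (Matrix.ProjectiveSpecialLinearGroup (Fin 2) F) :=
    inferInstanceAs (Finite (Matrix.SpecialLinearGroup (Fin 2) F ⧸ _))
  exact exists_prime_orderOf_dvd_card' l (dvd_card_psl_two hl h3 h)

/-- odd `q` -/
theorem psl_two_odd (h2 : (2 : F) ≠ 0) (h5 : 5 ≤ Fintype.card F) {l : ℕ} (hl : l.Prime) (h3 : 3 ≤ l)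
    (h : l ∣ Fintype.card F ^ 2 - 1) : ∃ x : Matrix.ProjectiveSpecialLinearGroup (Fin 2) F, orderOf x = l ∧
      ∀ g, g ≠ 1 → ∃ u v, g = (u * x * u⁻¹) * (v * x * v⁻¹) := by
  obtain ⟨p, hp⟩ := CharP.exists F
  have hpp : p.Prime := (CharP.char_is_prime_or_zero F p).resolve_right (CharP.char_ne_zero_of_finite F p)
  have : Fact p.Prime := ⟨hpp⟩
  obtain ⟨x, hx⟩ := exists_psl_two hl h3 h
  have hp2 : p ≠ 2 := by
    rintro rfl
    exact h2 (CharP.cast_eq_zero F 2)
  refine ⟨x, hx, fun g hg => S2455.result p hp2 h5 x (by rw [hx]; omega) ?_ g hg⟩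
  rw [hx]
  intro hd
  have h6 : p = l := (Nat.prime_dvd_prime_iff_eq hpp hl).1 hd
  have h7 : l ∣ Fintype.card F := by
    rw [← h6]
    obtain ⟨n, -, hn⟩ := FiniteField.card F p
    rw [hn]
    exact dvd_pow_self p n.pos.ne'
  have h8 : l ∣ Fintype.card F ^ 2 := h7.trans (dvd_pow_self _ two_ne_zero)
  have h9 : 1 ≤ Fintype.card F ^ 2 := Nat.one_le_pow _ _ (by omega)
  have h10 : l ∣ 1 := by
    have := Nat.dvd_sub h8 h
    rwa [Nat.sub_sub_self h9] at this
  exact hl.one_lt.ne' (Nat.dvd_one.1 h10)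

/-- **`PSL₂(q)`, `q ≠ 7, 17`.** -/
theorem row3_psl_two (h4 : 4 ≤ Fintype.card F) (h7 : Fintype.card F ≠ 7) (h17 : Fintype.card F ≠ 17) :
    Row3 (Matrix.ProjectiveSpecialLinearGroup (Fin 2) F) := by
  by_cases e4 : Fintype.card F = 4
  · obtain ⟨e⟩ := S0252.result e4
    exact Row3.of_equiv e (H459.TC.row3_alt le_rfl)
  by_cases e5 : Fintype.card F = 5
  · obtain ⟨e⟩ := S0253.result e5
    exact Row3.of_equiv e (H459.TC.row3_alt le_rfl)
  by_cases h2 : (2 : F) = 0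
  · have : CharP F 2 := CharTwo.of_one_ne_zero_of_two_eq_zero one_ne_zero h2
    obtain ⟨n, -, hn⟩ := FiniteField.card F 2
    have hn3 : 3 ≤ (n : ℕ) := by
      by_contra hlt
      have h6 : 2 ^ (n : ℕ) ≤ 2 ^ 2 := Nat.pow_le_pow_right (by norm_num) (by omega)
      omega
    obtain ⟨l, hl, hl5, hld⟩ := ell_minus (Or.inl rfl) hn3
    rw [← hn] at hld
    have hq : 2 ≤ Fintype.card F := Fintype.one_lt_card
    have hsq : Fintype.card F ^ 2 - 1 = (Fintype.card F + 1) * (Fintype.card F - 1) := by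
      have := Nat.sq_sub_sq (Fintype.card F) 1
      rwa [one_pow] at this
    obtain ⟨x, hx⟩ := exists_psl_two hl (by omega) (F := F) (by rw [hsq]; exact hld.mul_left _)
    refine Row3.of_sq (by rw [hx]; exact hl) (by rw [hx]; exact cop6 hl hl5)
      (S2456.result h4 x (by rw [hx]; omega) ?_)
    rw [hx]
    intro h
    have h6 : l ∣ 2 := by
      have := Nat.dvd_sub h hld
      have e : Fintype.card F + 1 - (Fintype.card F - 1) = 2 := by omega
      rwa [e] at this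
    have := Nat.le_of_dvd (by norm_num) h6
    omega
  · obtain ⟨l, hl, hl5, hld⟩ := exists_prime_sq h4 e5 h7 h17
    obtain ⟨x, hx, h⟩ := psl_two_odd h2 (by omega) hl (by omega) hld
    exact Row3.of_sq (by rw [hx]; exact hl) (by rw [hx]; exact cop6 hl hl5) h

/-- **`PSL₂(7)`, `PSL₂(17)`, form of S2452.** -/
theorem s2452_psl_two (h : Fintype.card F = 7 ∨ Fintype.card F = 17) :
    ∃ x y : Matrix.ProjectiveSpecialLinearGroup (Fin 2) F, (orderOf x).Prime ∧
      ((orderOf y).Prime ∨ ∃ s₁ s₂ : ℕ, s₁.Prime ∧ s₂.Prime ∧ s₁ ≠ s₂ ∧ orderOf y = s₁ * s₂) ∧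
      (∀ g : Matrix.ProjectiveSpecialLinearGroup (Fin 2) F, g ≠ 1 → ∃ u v, g = (u * x * u⁻¹) * (v * y * v⁻¹)) ∧
      (∀ g : Matrix.ProjectiveSpecialLinearGroup (Fin 2) F, ∃ u v w, g = (u * x * u⁻¹) * (v * x * v⁻¹) * (w * x * w⁻¹)) := by
  have h2 : (2 : F) ≠ 0 := by
    intro h2
    have : CharP F 2 := CharTwo.of_one_ne_zero_of_two_eq_zero one_ne_zero h2
    obtain ⟨n, -, hn⟩ := FiniteField.card F 2
    have h3 : 2 ∣ Fintype.card F := by rw [hn]; exact dvd_pow_self 2 n.pos.ne'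
    omega
  obtain ⟨x, hx, hc⟩ := psl_two_odd h2 (by omega) Nat.prime_three le_rfl (F := F) (by
    rcases h with h | h <;> rw [h] <;> norm_num)
  have hp : (orderOf x).Prime := by rw [hx]; exact Nat.prime_three
  refine ⟨x, x, hp, Or.inl hp, hc, H494.TC.three_of hc ?_⟩
  by_contra hcon
  push Not at hcon
  have hx1 : x ≠ 1 := by
    rintro rfl
    rw [orderOf_one] at hx
    omega
  obtain ⟨u, v, e⟩ := hc x hx1
  rw [hcon, hcon] at e
  exact hx1 (by simpa using e)

end psl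

/-- **Suzuki groups.** -/
theorem row3_sz {G : Type*} [Group G] (h : Cfsg.Lie.IsoSuzuki G) : Row3 G := by
  obtain ⟨F, _, _, m, hm, hF, ⟨e⟩⟩ := h
  refine Row3.of_equiv e ?_
  have hc := (S1163.result hm hF).1
  have h5 : 5 ∣ Nat.card ↥(Cfsg.Lie.Sz F (2 ^ (m + 1))) := by
    rw [hc]
    refine Dvd.dvd.mul_left ?_ _
    have h1 : (2 ^ (2 * m + 1)) ^ 2 = 4 * 16 ^ m := by
      rw [← pow_mul, show (2 * m + 1) * 2 = 2 + 4 * m by ring, pow_add, pow_mul]
      norm_num
    have h2 : 16 ^ m % 5 = 1 := by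
      rw [Nat.pow_mod]
      norm_num
    omega
  have : Fact (Nat.Prime 5) := ⟨Nat.prime_five⟩
  have : Finite ↥(Cfsg.Lie.Sz F (2 ^ (m + 1))) := inferInstance
  obtain ⟨x, hx⟩ := exists_prime_orderOf_dvd_card' 5 h5
  exact Row3.of_sq (by rw [hx]; exact Nat.prime_five) (by rw [hx]; norm_num)
    (S2457.result m hm hF x (by rw [hx]; norm_num))

/-- **Ree groups.** -/
theorem row3_ree {G : Type*} [Group G] (h : Cfsg.Lie.IsoRee G) : Row3 G := by
  obtain ⟨K, _, _, m, hm, hK, ⟨e⟩⟩ := h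
  refine Row3.of_equiv e ?_
  have hc := Cfsg.Agent.LieRecognition.ReeFinal.card hK
  have h7 : 7 ∣ Nat.card ↥(Cfsg.Lie.twistedG2 K (3 ^ m)) := by
    rw [hc]
    refine Dvd.dvd.mul_left ?_ _
    have h1 : (3 ^ (2 * m + 1)) ^ 3 = 27 * 729 ^ m := by
      rw [← pow_mul, show (2 * m + 1) * 3 = 3 + 6 * m by ring, pow_add, pow_mul]
      norm_num
    have h2 : 729 ^ m % 7 = 1 := by
      rw [Nat.pow_mod]
      norm_num
    omega
  have : Fact (Nat.Prime 7) := ⟨by norm_num⟩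
  have : Finite ↥(Cfsg.Lie.twistedG2 K (3 ^ m)) := by
    apply Nat.finite_of_card_ne_zero
    rw [hc]
    have h1 : 0 < 3 ^ (2 * m + 1) := by positivity
    have h2 : 0 < 3 ^ (2 * m + 1) - 1 := by
      have : 3 ^ 1 ≤ 3 ^ (2 * m + 1) := Nat.pow_le_pow_right (by norm_num) (by omega)
      omega
    positivity
  obtain ⟨x, hx⟩ := exists_prime_orderOf_dvd_card' 7 h7
  exact Row3.of_sq (by rw [hx]; norm_num) (by rw [hx]; norm_num)
    (S2458.result m hm hK x (by rw [hx]; norm_num) (by rw [hx]; norm_num))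

end Cfsg.Agent.H937.TC
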