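import Cfsg.Agent.H140.TC.Fam
import Cfsg.Agent.H538.Ore.Small
import Cfsg.Agent.H143.Ore.TwF
import Cfsg.Agent.H162.GaussExcMain

/-!
# S4173: rows which follow from landed statements (helper937)

`tc_sz`, `tc_ree`, `tc_g2`, `tc_d4`, `tc_2f4`, `tc_tits` and `F₄, E₆, E₇, E₈` over a field with at least nine elements.
-/

set_option autoImplicit false

namespace Cfsg.Agent.H937.TC

open Cfsg.Agent.H140.TC

universe u

theorem of_th {G : Type*} [Group G] (h : H538.Ore.Th G) : TC G := by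
  obtain ⟨x, -, h⟩ := h.ex
  exact ⟨x, x, h⟩

variable {G : Type*} [Group G]

theorem tc_sz (h : Cfsg.Lie.IsoSuzuki G) : TC G := of_th (H538.Ore.th_isoSuzuki h)
theorem tc_ree (h : Cfsg.Lie.IsoRee G) : TC G := of_th (H538.Ore.th_isoRee h)
theorem tc_g2 (h : Cfsg.Lie.IsoChevG2 G) : TC G := of_th (H538.Ore.th_isoChevG2 h)
theorem tc_d4 (h : Cfsg.Lie.Iso3D4 G) : TC G := of_th (H538.Ore.th_iso3D4 h)
theorem tc_2f4 (h : Cfsg.Lie.Iso2F4 G) : TC G := of_th (H143.Ore.th_iso2F4 h)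
theorem tc_tits (h : Cfsg.Lie.IsoTits G) : TC G := of_th (H143.Ore.th_isoTits h)

theorem of_square {G : Type*} [Group G] (h : ∃ c : G, ∀ g : G, ∃ x y : G, g = (x * c * x⁻¹) * (y * c * y⁻¹)) : TC G := by
  obtain ⟨c, h⟩ := h
  exact ⟨c, c, fun g _ => h g⟩

section exc

variable {F : Type u} [Field F] [Fintype F]

theorem tc_F4_nine (hF : 9 ≤ Fintype.card F) : TC ↥(Cfsg.Lie.chevF4.group F) :=
  of_square (H162.GaussExcMain.square_F4 hF)

theorem tc_E6_nine (hF : 9 ≤ Fintype.card F) : TC ↥(Cfsg.Lie.chevE6.group F) :=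
  of_square (H162.GaussExcMain.square_E6 hF)

theorem tc_E7_nine (hF : 9 ≤ Fintype.card F) : TC ↥(Cfsg.Lie.chevE7.group F) :=
  of_square (H162.GaussExcMain.square_E7 hF)

theorem tc_E8_nine (hF : 9 ≤ Fintype.card F) : TC ↥(Cfsg.Lie.chevE8.group F) :=
  of_square (H162.GaussExcMain.square_E8 hF)

end exc

end Cfsg.Agent.H937.TC
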